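import Mathlib.AlgebraicGeometry.Morphisms.Separated
import Mathlib.AlgebraicGeometry.Morphisms.ClosedImmersion
import Mathlib.AlgebraicGeometry.Morphisms.FiniteType
import Mathlib.AlgebraicGeometry.Limits
import Mathlib.RingTheory.Ideal.Quotient.Operations
import Mathlib.RingTheory.Localization.Away.Basic
import Mathlib.Order.Filter.Cofinite
import Mathlib.RingTheory.Valuation.ValuationSubring
import Mathlib.AlgebraicGeometry.Morphisms.QuasiCompact
import Mathlib.RingTheory.Spectrum.Prime.Topology

/-!
# Points of a scheme in a restricted product of fields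
-/

set_option autoImplicit false
set_option linter.style.haveILetI false

universe u

open CategoryTheory CategoryTheory.Limits AlgebraicGeometry Filter

namespace GrothLib.AdelePts28

/-- Two maps into a separated scheme agree if they agree after a jointly injective family of ring maps. -/
theorem hom_ext_of_jointly_injective {A : CommRingCat.{u}} {ι : Type*} {B : ι → CommRingCat.{u}} (π : ∀ i, A ⟶ B i)
    (hπ : ∀ a : A, (∀ i, π i a = 0) → a = 0) {X Y : Scheme.{u}} (h : X ⟶ Y) [IsSeparated h]
    (a b : Spec A ⟶ X) (w : a ≫ h = b ≫ h) (hab : ∀ i, Spec.map (π i) ≫ a = Spec.map (π i) ≫ b) : a = b := by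
  let g := pullback.lift a b w
  let z := pullback.snd (pullback.diagonal h) g
  haveI : IsClosedImmersion z := inferInstance
  obtain ⟨I, e, he⟩ := IsClosedImmersion.Spec_iff.mp (inferInstance : IsClosedImmersion z)
  have hl : ∀ i, ∃ l : Spec (B i) ⟶ pullback (pullback.diagonal h) g, l ≫ z = Spec.map (π i) := fun i =>
    ⟨pullback.lift (Spec.map (π i) ≫ a) (Spec.map (π i)) (by
      apply pullback.hom_ext <;> simp only [g, Category.assoc, pullback.diagonal_fst, pullback.diagonal_snd, pullback.lift_fst, pullback.lift_snd, Category.comp_id]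
      exact hab i), pullback.lift_snd _ _ _⟩
  have hI : I = ⊥ := le_bot_iff.mp fun x hx => by
    refine hπ x fun i => ?_
    obtain ⟨l, hl⟩ := hl i
    have : π i = CommRingCat.ofHom (Ideal.Quotient.mk I) ≫ Spec.preimage (l ≫ e.hom) := by
      apply Spec.map_injective
      rw [Spec.map_comp, Spec.map_preimage, Category.assoc, ← he, hl]
    rw [this, CommRingCat.comp_apply]
    have h0 : (CommRingCat.ofHom (Ideal.Quotient.mk I)) x = 0 := Ideal.Quotient.eq_zero_iff_mem.mpr hx
    rw [h0, map_zero]
  haveI : IsIso (CommRingCat.ofHom (Ideal.Quotient.mk I)) := by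
    rw [ConcreteCategory.isIso_iff_bijective]
    exact ⟨(RingHom.injective_iff_ker_eq_bot _).mpr (by exact Ideal.mk_ker.trans hI), Ideal.Quotient.mk_surjective⟩
  haveI : IsIso z := by rw [he]; infer_instance
  have h2 : z ≫ a = pullback.fst (pullback.diagonal h) g := by
    have := congrArg (· ≫ pullback.fst h h) (pullback.condition (f := pullback.diagonal h) (g := g))
    simp only [g, z, Category.assoc, pullback.diagonal_fst, pullback.diagonal_snd, pullback.lift_fst, pullback.lift_snd, Category.comp_id] at this ⊢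
    exact this.symm
  have h3 : z ≫ b = pullback.fst (pullback.diagonal h) g := by
    have := congrArg (· ≫ pullback.snd h h) (pullback.condition (f := pullback.diagonal h) (g := g))
    simp only [g, z, Category.assoc, pullback.diagonal_fst, pullback.diagonal_snd, pullback.lift_fst, pullback.lift_snd, Category.comp_id] at this ⊢
    exact this.symm
  exact (cancel_epi z).mp (h2.trans h3.symm)

/-- A map from the spectrum of a local ring lands in every open subset containing the image of the closed point. -/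
theorem range_subset_of_closedPoint {L : Type u} [CommRing L] [IsLocalRing L] {X : Scheme.{u}}
    (z : Spec (CommRingCat.of L) ⟶ X) {U : X.Opens} (hU : z.base (IsLocalRing.closedPoint L) ∈ U) :
    Set.range z.base ⊆ U := by
  rintro _ ⟨q, rfl⟩
  exact ((IsLocalRing.specializes_closedPoint q).map z.base.hom.continuous).mem_open U.2 hU

/-- A map into an affine open is a ring map. -/
theorem exists_ringHom_of_range_subset {B : CommRingCat.{u}} {X : Scheme.{u}} {U : X.Opens} (hU : IsAffineOpen U)
    (f : Spec B ⟶ X) (hf : Set.range f.base ⊆ U) : ∃ φ : Γ(X, U) ⟶ B, Spec.map φ ≫ hU.fromSpec = f := by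
  refine ⟨Spec.preimage (IsOpenImmersion.lift hU.fromSpec f (by rwa [hU.range_fromSpec])), ?_⟩
  rw [Spec.map_preimage, IsOpenImmersion.lift_fac]

variable {A : Type u} [CommRing A] {ι : Type u} {K : ι → Type u} [∀ v, Field (K v)] (π : ∀ v, A →+* K v)
  (O : ∀ v, ValuationSubring (K v))

include π in
/-- A point with values in the restricted product is integral almost everywhere. -/
theorem eventually_integral (hint : ∀ a, ∀ᶠ v in cofinite, π v a ∈ O v) {R : Type u} [CommRing R] (ρ : R →+* A)
    (hR : ∀ᶠ v in cofinite, ∀ r, π v (ρ r) ∈ O v) {X : Scheme.{u}} (h : X ⟶ Spec (CommRingCat.of R))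
    [LocallyOfFiniteType h] (x : Spec (CommRingCat.of A) ⟶ X) (hx : x ≫ h = Spec.map (CommRingCat.ofHom ρ)) :
    ∀ᶠ v in cofinite, ∃ z : Spec (CommRingCat.of (O v)) ⟶ X,
      Spec.map (CommRingCat.ofHom (O v).subtype) ≫ z = Spec.map (CommRingCat.ofHom (π v)) ≫ x := by
  classical
  let good : Set A := {f | ∃ U : X.Opens, IsAffineOpen U ∧
    (PrimeSpectrum.basicOpen f : Set (PrimeSpectrum A)) ⊆ x.base ⁻¹' U}
  have hspan : Ideal.span good = ⊤ := by
    by_contra hne
    obtain ⟨P, hP, hle⟩ := Ideal.exists_le_maximal _ hne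
    let q : PrimeSpectrum A := ⟨P, hP.isPrime⟩
    obtain ⟨U, hU, hxU, -⟩ := exists_isAffineOpen_mem_and_subset (X := X) (x := x.base q) (U := ⊤) trivial
    obtain ⟨_, ⟨f, rfl⟩, hqf, hsub⟩ := PrimeSpectrum.isTopologicalBasis_basic_opens.exists_subset_of_mem_open
      (show q ∈ x.base ⁻¹' (U : Set X) from hxU) (U.2.preimage x.base.hom.continuous)
    exact hqf (hle (Ideal.subset_span ⟨U, hU, hsub⟩))
  obtain ⟨c, hc⟩ := (Finsupp.mem_span_iff_linearCombination A good 1).mp (show (1 : A) ∈ Submodule.span A good by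
    show (1 : A) ∈ Ideal.span good
    rw [hspan]; trivial)
  rw [Finsupp.linearCombination_apply, Finsupp.sum] at hc
  have key : ∀ f : good, ∀ᶠ v in cofinite, IsUnit (π v f.1) → (π v f.1)⁻¹ ∈ O v →
      ∃ z : Spec (CommRingCat.of (O v)) ⟶ X,
        Spec.map (CommRingCat.ofHom (O v).subtype) ≫ z = Spec.map (CommRingCat.ofHom (π v)) ≫ x := by
    rintro ⟨f, U, hU, hfU⟩
    let Af := Localization.Away f
    let loc : CommRingCat.of A ⟶ CommRingCat.of Af := CommRingCat.ofHom (algebraMap A Af)
    obtain ⟨φ, hφ⟩ := exists_ringHom_of_range_subset hU (Spec.map loc ≫ x) (by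
      rintro _ ⟨q, rfl⟩
      refine hfU (?_ : (Spec.map loc).base q ∈ PrimeSpectrum.basicOpen f)
      exact fun hmem => q.2.ne_top (Ideal.eq_top_of_isUnit_mem _ hmem (IsLocalization.Away.algebraMap_isUnit f)))
    let χ : CommRingCat.of R ⟶ Γ(X, U) := (Scheme.ΓSpecIso (CommRingCat.of R)).inv ≫ h.appLE ⊤ U le_top
    have hχ : χ.hom.FiniteType :=
      (h.finiteType_appLE (isAffineOpen_top _) hU le_top).comp
        (RingHom.FiniteType.of_surjective _ (Scheme.ΓSpecIso (CommRingCat.of R)).commRingCatIsoToRingEquiv.symm.surjective)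
    letI : Algebra R Γ(X, U) := χ.hom.toAlgebra
    obtain ⟨G, hG⟩ := (show Algebra.FiniteType R Γ(X, U) from hχ).out
    have hφχ : χ ≫ φ = CommRingCat.ofHom ρ ≫ loc := by
      apply Spec.map_injective
      have h1 : Spec.map (h.appLE ⊤ U le_top) ≫ (isAffineOpen_top (Spec (CommRingCat.of R))).fromSpec = hU.fromSpec ≫ h :=
        IsAffineOpen.SpecMap_appLE_fromSpec h _ hU le_top
      rw [IsAffineOpen.fromSpec_top, Scheme.isoSpec_Spec_inv] at h1
      simp only [χ, Spec.map_comp]
      rw [h1, ← Category.assoc, hφ, Category.assoc, hx]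
    have hgen : ∀ g : Γ(X, U), ∃ (a : A) (n : ℕ), φ g * algebraMap A Af f ^ n = algebraMap A Af a := fun g => by
      obtain ⟨n, a, ha⟩ := IsLocalization.Away.surj f (φ g)
      exact ⟨a, n, ha⟩
    choose a n ha using hgen
    have hev : ∀ᶠ v in cofinite, ∀ g ∈ G, π v (a g) ∈ O v := (G.eventually_all).mpr fun g _ => hint _
    filter_upwards [hev, hR] with v hv hvR hu hinv
    let e : Af →+* K v := IsLocalization.Away.lift f hu
    let ψ : Γ(X, U) →+* K v := e.comp φ.hom
    have hψ : ∀ g, ψ g ∈ O v := by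
      suffices H : (⊤ : Subalgebra R Γ(X, U)) ≤ Subalgebra.mk ((O v).toSubring.comap ψ).toSubsemiring (fun r => by
          show ψ (χ.hom r) ∈ O v
          have : φ.hom (χ.hom r) = algebraMap A Af (ρ r) := ConcreteCategory.congr_hom hφχ r
          simp only [ψ, RingHom.comp_apply, this, e, IsLocalization.Away.lift_eq]
          exact hvR r) from fun g => H (Algebra.mem_top (x := g))
      rw [← hG, Algebra.adjoin_le_iff]
      intro g hg
      show ψ g ∈ O v
      have h1 : ψ g * π v f ^ n g = π v (a g) := by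
        have := congrArg e (ha g)
        rw [map_mul, map_pow, IsLocalization.Away.lift_eq, IsLocalization.Away.lift_eq] at this
        exact this
      rw [show ψ g = π v (a g) * (π v f)⁻¹ ^ n g by rw [← h1, mul_assoc, ← mul_pow, mul_inv_cancel₀ hu.ne_zero, one_pow, mul_one]]
      exact (O v).mul_mem _ _ (hv g hg) (pow_mem hinv _)
    refine ⟨Spec.map (CommRingCat.ofHom (ψ.codRestrict (O v).toSubring hψ)) ≫ hU.fromSpec, ?_⟩
    have he : (CommRingCat.ofHom (ψ.codRestrict (O v).toSubring hψ) ≫ CommRingCat.ofHom (O v).subtype :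
        Γ(X, U) ⟶ CommRingCat.of (K v)) = φ ≫ CommRingCat.ofHom e := rfl
    have he2 : loc ≫ CommRingCat.ofHom e = CommRingCat.ofHom (π v) := CommRingCat.hom_ext (IsLocalization.Away.lift_comp f hu)
    rw [← Category.assoc, ← Spec.map_comp, he, Spec.map_comp, Category.assoc, hφ, ← Category.assoc, ← Spec.map_comp, he2]
  have h1 : ∀ᶠ v in cofinite, ∀ f ∈ c.support, π v (c f) ∈ O v ∧ π v f.1 ∈ O v ∧
      (IsUnit (π v f.1) → (π v f.1)⁻¹ ∈ O v → ∃ z : Spec (CommRingCat.of (O v)) ⟶ X,
        Spec.map (CommRingCat.ofHom (O v).subtype) ≫ z = Spec.map (CommRingCat.ofHom (π v)) ≫ x) :=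
    (c.support.eventually_all).mpr fun f _ => (hint _).and ((hint _).and (key f))
  filter_upwards [h1] with v hv
  have hsum : ∑ f ∈ c.support.attach, (⟨π v (c f.1), (hv f.1 f.2).1⟩ : O v) * ⟨π v f.1.1, (hv f.1 f.2).2.1⟩ = 1 := by
    apply Subtype.val_injective
    rw [AddSubmonoidClass.coe_finsetSum]
    push_cast
    rw [Finset.sum_attach c.support fun f => π v (c f) * π v f.1, ← map_one (π v), ← hc, map_sum]
    simp only [smul_eq_mul, map_mul]
  by_contra hcon
  have : (1 : O v) ∈ IsLocalRing.maximalIdeal (O v) := by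
    rw [← hsum]
    refine Submodule.sum_mem _ fun f _ => Ideal.mul_mem_left _ _ ?_
    intro hunit
    refine hcon ((hv f.1 f.2).2.2 (hunit.map (O v).subtype) ?_)
    obtain ⟨w, hw⟩ := hunit.exists_right_inv
    have : (π v f.1.1)⁻¹ = (w : K v) := inv_eq_of_mul_eq_one_right (by simpa using congrArg Subtype.val hw)
    rw [this]; exact w.2
  exact (IsLocalRing.maximalIdeal.isMaximal (O v)).ne_top ((Ideal.eq_top_iff_one _).mpr this)

include π in
/-- A family of points, almost all integral, comes from a point with values in the restricted product. -/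
theorem exists_glue (hinj : ∀ a, (∀ v, π v a = 0) → a = 0) (hint : ∀ a, ∀ᶠ v in cofinite, π v a ∈ O v)
    (hglue : ∀ b : ∀ v, K v, (∀ᶠ v in cofinite, b v ∈ O v) → ∃ a, ∀ v, π v a = b v)
    {X : Scheme.{u}} [CompactSpace X] (y : ∀ v, Spec (CommRingCat.of (K v)) ⟶ X)
    (hy : ∀ᶠ v in cofinite, ∃ z : Spec (CommRingCat.of (O v)) ⟶ X,
      Spec.map (CommRingCat.ofHom (O v).subtype) ≫ z = y v) :
    ∃ x : Spec (CommRingCat.of A) ⟶ X, ∀ v, Spec.map (CommRingCat.ofHom (π v)) ≫ x = y v := by
  classical
  -- finitely many affine opens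
  choose U hU hmemU using fun p : X =>
    (exists_isAffineOpen_mem_and_subset (X := X) (x := p) (U := ⊤) trivial).imp fun U h => And.intro h.1 h.2.1
  obtain ⟨t, ht⟩ := CompactSpace.elim_nhds_subcover (fun p : X => (U p : Set X)) fun p => (U p).2.mem_nhds (hmemU p)
  have hcov : ∀ q : X, ∃ p : t, q ∈ U p.1 := fun q => by
    have : q ∈ (⊤ : Set X) := trivial
    rw [← ht] at this
    obtain ⟨p, hp, hq⟩ := Set.mem_iUnion₂.mp this
    exact ⟨⟨p, hp⟩, hq⟩
  -- a ring map for each place
  have hdata : ∀ v, ∃ (p : t) (φ : Γ(X, U p.1) ⟶ CommRingCat.of (K v)), Spec.map φ ≫ (hU p.1).fromSpec = y v ∧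
      ((∃ z : Spec (CommRingCat.of (O v)) ⟶ X, Spec.map (CommRingCat.ofHom (O v).subtype) ≫ z = y v) →
        ∀ s, φ s ∈ O v) := fun v => by
    by_cases hz : ∃ z : Spec (CommRingCat.of (O v)) ⟶ X, Spec.map (CommRingCat.ofHom (O v).subtype) ≫ z = y v
    · obtain ⟨z, hz⟩ := hz
      obtain ⟨p, hp⟩ := hcov (z.base (IsLocalRing.closedPoint (O v)))
      obtain ⟨φ, hφ⟩ := exists_ringHom_of_range_subset (hU p.1) z (range_subset_of_closedPoint z hp)
      refine ⟨p, φ ≫ CommRingCat.ofHom (O v).subtype, ?_, fun _ s => (φ s).2⟩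
      rw [Spec.map_comp, Category.assoc, hφ, hz]
    · obtain ⟨p, hp⟩ := hcov ((y v).base (IsLocalRing.closedPoint (K v)))
      obtain ⟨φ, hφ⟩ := exists_ringHom_of_range_subset (hU p.1) (y v) (range_subset_of_closedPoint (y v) hp)
      exact ⟨p, φ, hφ, fun h => absurd h hz⟩
  choose i φ hφ hφO using hdata
  -- idempotents
  have he : ∀ p : t, ∃ e : A, ∀ v, π v e = if i v = p then 1 else 0 := fun p => hglue _ (Filter.Eventually.of_forall fun v => by
    split_ifs
    · exact (O v).one_mem
    · exact (O v).zero_mem)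
  choose e he using he
  let I : t → Ideal A := fun p => Ideal.span {1 - e p}
  have hmem : ∀ (p : t) (a : A), (∀ v, i v = p → π v a = 0) → a ∈ I p := fun p a ha => by
    refine Ideal.mem_span_singleton'.mpr ⟨a, ?_⟩
    have : a * e p = 0 := hinj _ fun v => by
      rw [map_mul, he]
      split_ifs with hv
      · rw [ha v hv, zero_mul]
      · rw [mul_zero]
    rw [mul_sub, mul_one, this, sub_zero]
  have hker : ∀ v, ∀ a ∈ I (i v), π v a = 0 := fun v a ha => by
    obtain ⟨b, rfl⟩ := Ideal.mem_span_singleton'.mp ha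
    rw [map_mul, map_sub, map_one, he, if_pos rfl, sub_self, mul_zero]
  -- ring maps on the pieces
  have hθ : ∀ p : t, ∃ θ : Γ(X, U p.1) →+* A ⧸ I p, ∀ v (h : i v = p) (s : Γ(X, U p.1)),
      Ideal.Quotient.lift (I (i v)) (π v) (hker v) (h ▸ θ s) = φ v (h ▸ s) := fun p => by
    have hb : ∀ s : Γ(X, U p.1), ∃ a : A, ∀ v (h : i v = p), π v a = φ v (h ▸ s) := fun s => by
      obtain ⟨a, ha⟩ := hglue (fun v => if h : i v = p then φ v (h ▸ s) else 0) (by
        filter_upwards [hy] with v hv
        split_ifs with h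
        · exact hφO v hv _
        · exact (O v).zero_mem)
      exact ⟨a, fun v h => by rw [ha v, dif_pos h]⟩
    choose a ha using hb
    have heq : ∀ a b : A, (∀ v, i v = p → π v a = π v b) → Ideal.Quotient.mk (I p) a = Ideal.Quotient.mk (I p) b :=
      fun a b h => Ideal.Quotient.eq.mpr (hmem p _ fun v hv => by rw [map_sub, h v hv, sub_self])
    refine ⟨{ toFun := fun s => Ideal.Quotient.mk (I p) (a s)
              map_one' := by
                rw [← map_one (Ideal.Quotient.mk (I p))]
                exact heq _ _ fun v hv => by subst hv; rw [ha _ v rfl, map_one, map_one]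
              map_mul' := fun s s' => by
                rw [← map_mul]
                exact heq _ _ fun v hv => by subst hv; rw [map_mul, ha _ v rfl, ha _ v rfl, ha _ v rfl]; exact map_mul (φ v).hom s s'
              map_zero' := by
                rw [← map_zero (Ideal.Quotient.mk (I p))]
                exact heq _ _ fun v hv => by subst hv; rw [ha _ v rfl, map_zero, map_zero]
              map_add' := fun s s' => by
                rw [← map_add]
                exact heq _ _ fun v hv => by subst hv; rw [map_add, ha _ v rfl, ha _ v rfl, ha _ v rfl]; exact map_add (φ v).hom s s' },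
      fun v h s => ?_⟩
    subst h
    exact (Ideal.Quotient.lift_mk _ _ _).trans (ha s v rfl)
  choose θ hθ using hθ
  -- the decomposition
  let P : A →+* ∀ p : t, A ⧸ I p := RingHom.pi fun p => Ideal.Quotient.mk (I p)
  haveI : IsIso (CommRingCat.ofHom P) := by
    rw [ConcreteCategory.isIso_iff_bijective]
    constructor
    · intro a b hab
      refine sub_eq_zero.mp (hinj _ fun v => ?_)
      have := congrFun hab (i v)
      exact hker v _ (Ideal.Quotient.eq.mp this)
    · intro c
      choose r hr using fun p => Ideal.Quotient.mk_surjective (c p)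
      obtain ⟨a, ha⟩ := hglue (fun v => π v (r (i v))) (by
        filter_upwards [(eventually_all.mpr fun p : t => hint (r p))] with v hv
        exact hv _)
      refine ⟨a, funext fun p => ?_⟩
      show Ideal.Quotient.mk (I p) a = c p
      rw [← hr p, Ideal.Quotient.eq]
      exact hmem p _ fun v hv => by rw [map_sub, ha v, hv, sub_self]
  let B : t → CommRingCat.{u} := fun p => CommRingCat.of (A ⧸ I p)
  let σ := sigmaSpec B
  let P' : CommRingCat.of A ⟶ CommRingCat.of (∀ p, B p) := CommRingCat.ofHom P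
  haveI : IsIso P' := ‹_›
  refine ⟨inv (Spec.map P') ≫ inv σ ≫ Sigma.desc (fun p => Spec.map (CommRingCat.ofHom (θ p) : Γ(X, U p.1) ⟶ B p) ≫ (hU p.1).fromSpec),
    fun v => ?_⟩
  let L : B (i v) ⟶ CommRingCat.of (K v) := CommRingCat.ofHom (Ideal.Quotient.lift (I (i v)) (π v) (hker v))
  have h1 : Spec.map (CommRingCat.ofHom (π v)) = Spec.map L ≫ Sigma.ι (fun p => Spec (B p)) (i v) ≫ σ ≫ Spec.map P' := by
    rw [show σ = sigmaSpec B from rfl, ι_sigmaSpec_assoc, ← Spec.map_comp, ← Spec.map_comp]
    rfl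
  rw [h1]
  simp only [Category.assoc, IsIso.hom_inv_id_assoc, Sigma.ι_desc]
  rw [← Category.assoc, ← Spec.map_comp]
  have h2 : (CommRingCat.ofHom (θ (i v)) : Γ(X, U (i v).1) ⟶ B (i v)) ≫ L = φ v := by
    ext s
    exact hθ (i v) v rfl s
  rw [h2, hφ]

end GrothLib.AdelePts28
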