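import Groth.Agent.Lib.AdelePts28.Basic
import Groth.Agent.Lib.BigH028.Pts
import Groth.Prelude.Def_CGrpSh2
import Mathlib.AlgebraicGeometry.Pullbacks
import Mathlib.LinearAlgebra.TensorProduct.Basis

/-!
# Characters over a restricted product are determined by their components
-/

set_option autoImplicit false
set_option linter.style.haveILetI false

universe u

open CategoryTheory CategoryTheory.Limits AlgebraicGeometry Opposite
open scoped TensorProduct

namespace GrothLib.AdelePts28

variable {R K A : Type u} [CommRing R] [Field K] [CommRing A] [Algebra K A] (j : R →+* K)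
  {ι : Type u} {B : ι → Type u} [∀ v, CommRing (B v)] [∀ v, Algebra K (B v)] (π : ∀ v, A →ₐ[K] B v)

include π in
theorem tensor_jointly_injective (hinj : ∀ a, (∀ v, π v a = 0) → a = 0) (C : Type u) [CommRing C] [Algebra K C]
    (x : C ⊗[K] A) (hx : ∀ v, Algebra.TensorProduct.map (AlgHom.id K C) (π v) x = 0) : x = 0 := by
  classical
  let b := Module.Free.chooseBasis K C
  let e : ∀ (M : Type u) [AddCommGroup M] [Module K M], C ⊗[K] M ≃ₗ[K] (Module.Free.ChooseBasisIndex K C →₀ M) :=
    fun M _ _ => TensorProduct.equivFinsuppOfBasisLeft b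
  refine (e A).injective (Finsupp.ext fun i => ?_)
  rw [map_zero]
  refine hinj _ fun v => ?_
  have h : ∀ y : C ⊗[K] A, e (B v) (Algebra.TensorProduct.map (AlgHom.id K C) (π v) y) i = π v (e A y i) := fun y => by
    induction y with
    | zero => simp
    | tmul c a => simp [e]
    | add p q hp hq => simp [hp, hq]
  rw [← h, hx, map_zero]
  rfl

/-- The base change of the structure map to a `K`-algebra. -/
noncomputable abbrev baseObj (C : Type u) [CommRing C] [Algebra K C] : Over (Spec (CommRingCat.of R)) :=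
  Over.mk (Spec.map (CommRingCat.ofHom ((algebraMap K C).comp j)))

/-- The map of spectra of an algebra map, over the base. -/
noncomputable def baseMap {C D : Type u} [CommRing C] [Algebra K C] [CommRing D] [Algebra K D] (f : C →ₐ[K] D) :
    baseObj j D ⟶ baseObj j C :=
  Over.homMk (Spec.map (CommRingCat.ofHom f.toRingHom)) (by
    show Spec.map (CommRingCat.ofHom f.toRingHom) ≫ Spec.map _ = Spec.map _
    rw [← Spec.map_comp, ← CommRingCat.ofHom_comp]
    congr 2
    exact RingHom.ext fun r => f.commutes (j r))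

theorem isSeparated_Gm (S : Scheme.{u}) : IsSeparated (Red.Gm S).hom := by
  haveI : IsAffineHom (Red.diag (ULift.{u} ℤ) ℤ).hom := inferInstanceAs (IsAffineHom (Spec.map _))
  haveI : IsAffineHom (Red.Gm S).hom :=
    MorphismProperty.pullback_snd (P := @IsAffineHom) (Red.diag (ULift.{u} ℤ) ℤ).hom _ ‹_›
  infer_instance

include π in
/-- A morphism of the sheaves of points restricted to the restricted product is determined by its components. -/
theorem dual_hom_ext (hinj : ∀ a, (∀ v, π v a = 0) → a = 0) (𝒢 : Over (Spec (CommRingCat.of R))) [GrpObj 𝒢]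
    [IsCommMonObj 𝒢] (haff : IsAffine ↑(pullback 𝒢.hom (Spec.map (CommRingCat.ofHom j))))
    (U : Over (Spec (CommRingCat.of R))) (eU : U ≅ baseObj j A)
    (φ ψ : (CGrpSh.pts Scheme.fppfPrecoverage 𝒢).over U ⟶ (CGrpSh2.Gm Scheme.fppfPrecoverage (Spec (CommRingCat.of R))).over U)
    (h : ∀ v (W : Over U) (t : W.left ⟶ baseObj j (B v)), W.hom = t ≫ baseMap j (π v) ≫ eU.inv →
      φ.hom.app (op W) = ψ.hom.app (op W)) : φ = ψ := by
  haveI := haff
  haveI := isSeparated_Gm (Spec (CommRingCat.of R))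
  let P₁ := pullback 𝒢.hom (Spec.map (CommRingCat.ofHom j))
  let β : CommRingCat.of K ⟶ Γ(P₁, ⊤) := (Scheme.ΓSpecIso (CommRingCat.of K)).inv ≫ (pullback.snd _ _ : P₁ ⟶ _).appTop
  letI : Algebra K Γ(P₁, ⊤) := β.hom.toAlgebra
  have hβ : P₁.isoSpec.hom ≫ Spec.map (CommRingCat.ofHom (algebraMap K Γ(P₁, ⊤))) = pullback.snd _ _ := by
    show P₁.isoSpec.hom ≫ Spec.map β = _
    rw [Spec.map_comp, ← Category.assoc, Scheme.isoSpec_hom_naturality, Category.assoc, Scheme.isoSpec_Spec]
    simp [← Spec.map_comp]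
  let C := Γ(P₁, ⊤) ⊗[K] A
  let q₁ : Spec (CommRingCat.of C) ⟶ P₁ := Spec.map (CommRingCat.ofHom Algebra.TensorProduct.includeLeftRingHom) ≫ P₁.isoSpec.inv
  let q₂ : Spec (CommRingCat.of C) ⟶ Spec (CommRingCat.of A) :=
    Spec.map (CommRingCat.ofHom (Algebra.TensorProduct.includeRight (R := K) (A := Γ(P₁, ⊤)) (B := A)).toRingHom)
  let T₀ : Over (Spec (CommRingCat.of R)) := baseObj j C
  let t₀ : T₀ ⟶ baseObj j A := baseMap j (Algebra.TensorProduct.includeRight)
  have hq : q₁ ≫ pullback.snd _ _ = q₂ ≫ Spec.map (CommRingCat.ofHom (algebraMap K A)) := by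
    simp only [q₁, q₂, ← hβ, Category.assoc, Iso.inv_hom_id_assoc, ← Spec.map_comp]
    congr 1
    ext r
    exact (Algebra.TensorProduct.algebraMap_apply r).symm.trans ((Algebra.TensorProduct.includeRight (R := K) (A := Γ(P₁, ⊤)) (B := A)).commutes r).symm
  have hcomp : ∀ (D : Type u) [CommRing D] [Algebra K D], Spec.map (CommRingCat.ofHom ((algebraMap K D).comp j)) =
      Spec.map (CommRingCat.ofHom (algebraMap K D)) ≫ Spec.map (CommRingCat.ofHom j) := fun D _ _ => by
    rw [← Spec.map_comp, ← CommRingCat.ofHom_comp]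
  let a₀ : T₀ ⟶ 𝒢 := Over.homMk (q₁ ≫ pullback.fst _ _) (by
    show (q₁ ≫ pullback.fst _ _) ≫ 𝒢.hom = Spec.map _
    rw [Category.assoc, pullback.condition, ← Category.assoc, hq, Category.assoc, ← hcomp]
    exact Over.w t₀)
  let W₀ : Over U := Over.mk (t₀ ≫ eU.inv)
  let s₀ : ((CGrpSh.pts Scheme.fppfPrecoverage 𝒢).over U).obj.obj (op W₀) := ⟨Additive.ofMul a₀⟩
  -- the value at the universal point
  have huniv : φ.hom.app (op W₀) s₀ = ψ.hom.app (op W₀) s₀ := by
    refine ULift.ext _ _ (Additive.toMul.injective (Over.OverMorphism.ext ?_))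
    refine hom_ext_of_jointly_injective
      (fun v => CommRingCat.ofHom (Algebra.TensorProduct.map (AlgHom.id K Γ(P₁, ⊤)) (π v)).toRingHom)
      (tensor_jointly_injective π hinj _) (Red.Gm (Spec (CommRingCat.of R))).hom _ _
      ((Over.w _).trans (Over.w _).symm) fun v => ?_
    let Tv : Over (Spec (CommRingCat.of R)) := baseObj j (Γ(P₁, ⊤) ⊗[K] B v)
    let tv : Tv ⟶ baseObj j (B v) := baseMap j (Algebra.TensorProduct.includeRight)
    let m : Tv ⟶ T₀ := baseMap j (Algebra.TensorProduct.map (AlgHom.id K Γ(P₁, ⊤)) (π v))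
    have hm : m ≫ t₀ = tv ≫ baseMap j (π v) := by
      ext1
      show Spec.map _ ≫ Spec.map _ = Spec.map _ ≫ Spec.map _
      rw [← Spec.map_comp, ← Spec.map_comp]
      congr 1
    let Wv : Over U := Over.mk (m ≫ t₀ ≫ eU.inv)
    let g : Wv ⟶ W₀ := Over.homMk m rfl
    have e1 := ConcreteCategory.congr_hom (φ.hom.naturality g.op) s₀
    have e2 := ConcreteCategory.congr_hom (ψ.hom.naturality g.op) s₀
    have e3 := h v Wv tv (by show m ≫ t₀ ≫ eU.inv = _; rw [← Category.assoc, hm, Category.assoc])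
    rw [ConcreteCategory.comp_apply, ConcreteCategory.comp_apply] at e1 e2
    rw [e3] at e1
    have e4 := e1.symm.trans e2
    exact congrArg (fun s => (Additive.toMul (ULift.down s)).left) e4
  -- reduction to the universal point
  refine Sheaf.hom_ext (NatTrans.ext (funext fun W => AddCommGrpCat.ext fun s => ?_))
  obtain ⟨W⟩ := W
  let a : W.left ⟶ 𝒢 := Additive.toMul (ULift.down s)
  let t : W.left ⟶ baseObj j A := W.hom ≫ eU.hom
  let u : W.left.left ⟶ P₁ := pullback.lift a.left (t.left ≫ Spec.map (CommRingCat.ofHom (algebraMap K A))) (by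
    rw [Category.assoc, ← hcomp]
    exact (Over.w a).trans (Over.w t).symm)
  let l : W.left.left ⟶ Spec (CommRingCat.of C) :=
    pullback.lift (f := Spec.map (CommRingCat.ofHom (algebraMap K Γ(P₁, ⊤)))) (g := Spec.map (CommRingCat.ofHom (algebraMap K A)))
      (u ≫ P₁.isoSpec.hom) t.left (by rw [Category.assoc, hβ]; exact pullback.lift_snd _ _ _) ≫ (pullbackSpecIso K Γ(P₁, ⊤) A).hom
  have hl₂ : l ≫ q₂ = t.left := by
    rw [show q₂ = Spec.map (CommRingCat.ofHom (Algebra.TensorProduct.includeRight (R := K) (A := Γ(P₁, ⊤)) (B := A)).toRingHom) from rfl]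
    simp only [l, Category.assoc]
    exact (congrArg (_ ≫ ·) (pullbackSpecIso_hom_snd _ _ _)).trans (pullback.lift_snd _ _ _)
  have hl₁ : l ≫ q₁ = u := by
    simp only [l, q₁, Category.assoc]
    rw [pullbackSpecIso_hom_fst_assoc, pullback.lift_fst_assoc, Category.assoc, Iso.hom_inv_id, Category.comp_id]
  let lo : W.left ⟶ T₀ := Over.homMk l (by
    rw [← Over.w t₀, ← Category.assoc]
    exact (congrArg (· ≫ (baseObj j A).hom) hl₂).trans (Over.w t))
  have hlo : lo ≫ t₀ = t := Over.OverMorphism.ext hl₂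
  let g : W ⟶ W₀ := Over.homMk lo (by
    show lo ≫ t₀ ≫ eU.inv = W.hom
    rw [← Category.assoc, hlo, Category.assoc, Iso.hom_inv_id, Category.comp_id])
  have hga : lo ≫ a₀ = a := Over.OverMorphism.ext (by
    show l ≫ q₁ ≫ pullback.fst _ _ = a.left
    rw [← Category.assoc, hl₁, pullback.lift_fst])
  have hs : ((CGrpSh.pts Scheme.fppfPrecoverage 𝒢).over U).obj.map g.op s₀ = s :=
    ULift.ext _ _ (congrArg Additive.ofMul hga)
  have e1 := ConcreteCategory.congr_hom (φ.hom.naturality g.op) s₀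
  have e2 := ConcreteCategory.congr_hom (ψ.hom.naturality g.op) s₀
  rw [ConcreteCategory.comp_apply, ConcreteCategory.comp_apply, hs] at e1 e2
  rw [e1, e2, huniv]

end GrothLib.AdelePts28
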